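import Groth.Agent.Lib.RefHull26.HomExt
import Groth.Agent.Lib.RefHull26.Ops
import Groth.Agent.Lib.P1Split17.Basis
import Groth.Prelude.Def_ExtPow2
import Groth.Prelude.Def_Omega3
import Mathlib.LinearAlgebra.ExteriorPower.Basic
import Mathlib.LinearAlgebra.Determinant

/-!
# Biduality for an exterior power of top degree of a locally free module
-/

set_option autoImplicit false
set_option linter.style.haveILetI false
set_option backward.isDefEq.respectTransparency false
set_option backward.isDefEq.respectTransparency.types false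
universe u

open CategoryTheory AlgebraicGeometry TopologicalSpace Opposite

namespace Groth.Agent.BigOpen13

open Groth.Agent.RH26

variable {X : Scheme.{u}}

theorem bijective_smul_ιMulti {A : Type u} [CommRing A] {M : Type u} [AddCommGroup M] [Module A M] {h : ℕ}
    (b : Module.Basis (Fin h) A M) :
    Function.Bijective fun r : A => r • exteriorPower.ιMulti A h (⇑b) := by
  classical
  let d : ⋀[A]^h M →ₗ[A] A := exteriorPower.alternatingMapLinearEquiv b.det
  have hd : d (exteriorPower.ιMulti A h (⇑b)) = 1 := by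
    rw [exteriorPower.alternatingMapLinearEquiv_apply_ιMulti, b.det_self]
  refine ⟨fun r r' e => by simpa [map_smul, hd] using congrArg d e, fun ω => ⟨d ω, ?_⟩⟩
  show d ω • exteriorPower.ιMulti A h (⇑b) = ω
  suffices key : (d.smulRight (exteriorPower.ιMulti A h (⇑b))) = LinearMap.id from LinearMap.congr_fun key ω
  refine exteriorPower.linearMap_ext (Module.Basis.ext_alternating b fun v hv => ?_)
  let σ : Equiv.Perm (Fin h) := Equiv.ofBijective v (Finite.injective_iff_bijective.1 hv)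
  show d (exteriorPower.ιMulti A h (⇑b ∘ σ)) • exteriorPower.ιMulti A h (⇑b) = exteriorPower.ιMulti A h (⇑b ∘ σ)
  rw [AlternatingMap.map_perm (exteriorPower.ιMulti A h) (⇑b) σ, Units.smul_def, map_zsmul, hd, smul_assoc, one_smul]

theorem str_germ {W : X.Opens} {z : X} (hz : z ∈ W) (n : Γ(Coh.structureModule X, W)) :
    str z (X.presheaf.germ W z hz (OmegaSh.fnSect X W n)) = (Coh.structureModule X).presheaf.germ W z hz n := by
  rw [str_apply, Cyc26.oneStalk, ← M1.germ_mres (Coh.structureModule X) (le_top : W ≤ ⊤) hz, ← M1.germ_smul]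
  refine congrArg _ ?_
  show OmegaSh.fnSect X W n * X.presheaf.map (homOfLE (le_top : W ≤ ⊤)).op 1 = OmegaSh.fnSect X W n
  rw [map_one, mul_one]

/-- A generator of `L` near a point where `E` is free of rank `h`. -/
theorem exists_gen_nhd {h : ℕ} {E L : X.Modules} (hL : ExtPow.IsExtPow h E L) {D : X.Opens}
    {e : Fin h → Γ(E, D)} (he : P1Split.IsBas E D e) {x : X} (hx : x ∈ D) :
    ∃ (V : X.Opens) (_ : x ∈ V) (l : Γ(L, V)), ∀ (y : X) (hy : y ∈ V), Amp.Gen (L.presheaf.germ V y hy l) := by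
  classical
  obtain ⟨φ, hφ⟩ := hL
  obtain ⟨V, hV, hxV, hVD⟩ := exists_isAffineOpen_mem_and_subset (X := X) (x := x) (U := D) hx
  have hVD : V ≤ D := hVD
  have bas : ∀ (W : X.Opens) (hW : W ≤ D), ∃ b : Module.Basis (Fin h) Γ(X, W) Γ(E, W),
      ⇑b = fun i => M1.mres E hW (e i) := by
    intro W hW
    let Φ : (Fin h → Γ(X, W)) ≃ₗ[Γ(X, W)] Γ(E, W) :=
      LinearEquiv.ofBijective (Fintype.linearCombination Γ(X, W) fun i => M1.mres E hW (e i)) (he W hW)
    refine ⟨Module.Basis.ofEquivFun Φ.symm, funext fun i => ?_⟩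
    rw [Module.Basis.coe_ofEquivFun]
    show Fintype.linearCombination Γ(X, W) _ (Function.update 0 i 1) = _
    rw [show Function.update (0 : Fin h → Γ(X, W)) i 1 = Pi.single i 1 from rfl,
      Fintype.linearCombination_apply_single, one_smul]
  let eV : ∀ (W : X.affineOpens), W.1 ≤ D → Γ(L, W.1) := fun W hW =>
    (φ W).symm (exteriorPower.ιMulti _ h fun i => M1.mres E hW (e i))
  have hbij : ∀ (W : X.affineOpens) (hW : W.1 ≤ D), Function.Bijective fun r : Γ(X, W.1) => r • eV W hW := by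
    intro W hW
    obtain ⟨b, hb⟩ := bas W.1 hW
    have h1 := (φ W).symm.bijective.comp (bijective_smul_ιMulti b)
    have : (fun r : Γ(X, W.1) => r • eV W hW) = (φ W).symm ∘ fun r : Γ(X, W.1) => r • exteriorPower.ιMulti _ h (⇑b) :=
      funext fun r => by
        show r • (φ W).symm _ = (φ W).symm (r • _)
        rw [map_smul, hb]
        rfl
    rw [this]
    exact h1
  have hres : ∀ (W : X.affineOpens) (hW : W.1 ≤ V), M1.mres L hW (eV ⟨V, hV⟩ hVD) = eV W (hW.trans hVD) := by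
    intro W hW
    refine (hφ ⟨V, hV⟩ W hW fun i => M1.mres E hVD (e i)).trans ?_
    exact congrArg (φ W).symm (congrArg (exteriorPower.ιMulti _ h) (funext fun i => M1.mres_mres E _ _ _))
  refine ⟨V, hxV, eV ⟨V, hV⟩ hVD, fun y hy => ⟨fun r r' e' => ?_, fun w => ?_⟩⟩
  · have e'' : r • L.presheaf.germ V y hy (eV ⟨V, hV⟩ hVD) = r' • L.presheaf.germ V y hy (eV ⟨V, hV⟩ hVD) := e'
    obtain ⟨A, hyA, a, rfl⟩ := X.presheaf.exists_germ_eq r
    obtain ⟨A', hyA', a', rfl⟩ := X.presheaf.exists_germ_eq r'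
    let B := A ⊓ A' ⊓ V
    rw [← TopCat.Presheaf.germ_res_apply X.presheaf (homOfLE (inf_le_left.trans inf_le_left : B ≤ A)) y ⟨⟨hyA, hyA'⟩, hy⟩ a,
      ← TopCat.Presheaf.germ_res_apply X.presheaf (homOfLE (inf_le_left.trans inf_le_right : B ≤ A')) y ⟨⟨hyA, hyA'⟩, hy⟩ a',
      ← M1.germ_mres L (inf_le_right : B ≤ V) ⟨⟨hyA, hyA'⟩, hy⟩, ← M1.germ_smul, ← M1.germ_smul] at e''
    obtain ⟨C, hyC, i, j, hC⟩ := L.presheaf.germ_eq y _ _ _ _ e''
    obtain ⟨W, hW, hyW, hWC⟩ := exists_isAffineOpen_mem_and_subset (X := X) (x := y) (U := C) hyC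
    have hWB : W ≤ B := fun z hz => i.le (hWC hz)
    have h2 := congrArg (M1.mres L (show W ≤ C from hWC)) hC
    change M1.mres L _ (M1.mres L i.le _) = M1.mres L _ (M1.mres L j.le _) at h2
    rw [M1.mres_mres, M1.mres_mres, M1.mres_smul, M1.mres_smul, M1.mres_mres, hres ⟨W, hW⟩ (hWB.trans inf_le_right)] at h2
    have h3 := congrArg (X.presheaf.germ W y hyW) ((hbij ⟨W, hW⟩ _).1 h2)
    simp only [M1.ores, TopCat.Presheaf.germ_res_apply] at h3
    exact h3
  · obtain ⟨C, hyC, m, rfl⟩ := L.presheaf.exists_germ_eq w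
    obtain ⟨W, hW, hyW, hWC⟩ := exists_isAffineOpen_mem_and_subset (X := X) (x := y) (U := C ⊓ V) ⟨hyC, hy⟩
    have hWC' : W ≤ C := fun z hz => (hWC hz).1
    have hWV : W ≤ V := fun z hz => (hWC hz).2
    obtain ⟨r, hr⟩ := (hbij ⟨W, hW⟩ (hWV.trans hVD)).2 (M1.mres L hWC' m)
    refine ⟨X.presheaf.germ W y hyW r, ?_⟩
    show X.presheaf.germ W y hyW r • L.presheaf.germ V y hy (eV ⟨V, hV⟩ hVD) = L.presheaf.germ C y hyC m
    rw [← M1.germ_mres L hWV hyW, hres ⟨W, hW⟩ hWV, ← M1.germ_smul]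
    exact (congrArg (L.presheaf.germ W y hyW) hr).trans (M1.germ_mres L hWC' hyW m)

set_option maxHeartbeats 1000000 in
/-- The biduality map is bijective on stalks where the module has a local generator. -/
theorem bijective_bidual_of_gen {L : X.Modules} {V : X.Opens} {l : Γ(L, V)}
    (hl : ∀ (y : X) (hy : y ∈ V), Amp.Gen (L.presheaf.germ V y hy l)) {x : X} (hx : x ∈ V) :
    Function.Bijective (RefHull.stalkMapₗ (RefHull.bidualMap L) x) := by
  let O := Coh.structureModule X
  let f : ∀ y : V, RefHull.StalkHom L O y.1 := fun y =>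
    (str y.1).toLinearMap.comp (genEquiv (hl y.1 y.2)).symm.toLinearMap
  have hf : ∀ (y : X) (hy : y ∈ V) (r : X.presheaf.stalk y),
      f ⟨y, hy⟩ (r • L.presheaf.germ V y hy l) = r • Cyc26.oneStalk y := by
    intro y hy r
    show str y ((genEquiv (hl y hy)).symm (r • L.presheaf.germ V y hy l)) = _
    rw [map_smul, genEquiv_symm_self, smul_eq_mul, mul_one, str_apply]
  let ε : Γ(RefHull.dual L, V) := ⟨f, fun V' i m y => by
    obtain ⟨r, hr⟩ := (hl y.1 (i.le y.2)).2 (L.presheaf.germ V' y.1 y.2 m)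
    obtain ⟨A, hyA, a, rfl⟩ := X.presheaf.exists_germ_eq r
    let B := A ⊓ V'
    have hr' : X.presheaf.germ A y.1 hyA a • L.presheaf.germ V y.1 (i.le y.2) l =
        L.presheaf.germ V' y.1 y.2 m := hr
    rw [← TopCat.Presheaf.germ_res_apply X.presheaf (homOfLE (inf_le_left : B ≤ A)) y.1 ⟨hyA, y.2⟩ a,
      ← M1.germ_mres L (show B ≤ V from inf_le_right.trans i.le) ⟨hyA, y.2⟩, ← M1.germ_smul,
      ← M1.germ_mres L (inf_le_right : B ≤ V') ⟨hyA, y.2⟩] at hr'
    obtain ⟨C, hyC, j, j', hC⟩ := L.presheaf.germ_eq y.1 _ _ _ _ hr'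
    refine ⟨C, hyC, homOfLE (j.le.trans inf_le_right),
      OmegaSh.strSect X C (X.presheaf.map (homOfLE (j.le.trans inf_le_left)).op a), fun z => ?_⟩
    have h2 := congrArg (L.presheaf.germ C z.1 z.2) hC
    rw [TopCat.Presheaf.germ_res_apply, TopCat.Presheaf.germ_res_apply, M1.germ_smul, M1.germ_mres, M1.germ_mres] at h2
    change f ⟨z.1, i.le ((j.le.trans inf_le_right) z.2)⟩
      (L.presheaf.germ V' z.1 ((j.le.trans inf_le_right) z.2) m) = _
    rw [← h2, hf, ← str_germ, ← str_apply]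
    refine congrArg (str z.1) ?_
    show _ = X.presheaf.germ C z.1 z.2 (X.presheaf.map _ a)
    rw [TopCat.Presheaf.germ_res_apply, TopCat.Presheaf.germ_res_apply]⟩
  let εs : ∀ (y : X) (hy : y ∈ V), (RefHull.dual L).presheaf.stalk y :=
    fun y hy => (RefHull.dual L).presheaf.germ V y hy ε
  have hεs : ∀ (y : X) (hy : y ∈ V) (r : X.presheaf.stalk y),
      RefHull.evalStalk L O y (εs y hy) (r • L.presheaf.germ V y hy l) = r • Cyc26.oneStalk y := fun y hy r => by
    rw [RefHull.evalStalk_germ]; exact hf y hy r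
  have hspan : ∀ (y : X) (hy : y ∈ V) (θ : (RefHull.dual L).presheaf.stalk y),
      θ = (str y).symm (RefHull.evalStalk L O y θ (L.presheaf.germ V y hy l)) • εs y hy := by
    intro y hy θ
    obtain ⟨A, hyA, t, rfl⟩ := (RefHull.dual L).presheaf.exists_germ_eq θ
    obtain ⟨W, hyW, j, n, hn⟩ := RefHull.isLocSect_of_mem t (A ⊓ V) (homOfLE inf_le_left)
      (M1.mres L (inf_le_right : A ⊓ V ≤ V) l) ⟨y, hyA, hy⟩
    have hWA : W ≤ A := j.le.trans inf_le_left
    have hWV : W ≤ V := j.le.trans inf_le_right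
    have hn' : ∀ (z : X) (hz : z ∈ W), (str z).symm (t.1 ⟨z, hWA hz⟩ (L.presheaf.germ V z (hWV hz) l)) =
        X.presheaf.germ W z hz (OmegaSh.fnSect X W n) := fun z hz => by
      have h := hn ⟨z, hz⟩
      rw [M1.germ_mres] at h
      exact (congrArg (str z).symm h).trans ((str z).symm_apply_eq.2 (str_germ hz n).symm)
    have key : M1.mres (RefHull.dual L) hWA t =
        (OmegaSh.fnSect X W n) • M1.mres (RefHull.dual L) hWV ε := by
      refine Subtype.ext (funext fun z => LinearMap.ext fun v => ?_)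
      obtain ⟨r, rfl⟩ := (hl z.1 (hWV z.2)).2 v
      show t.1 ⟨z.1, hWA z.2⟩ (r • _) = X.presheaf.germ W z.1 z.2 (OmegaSh.fnSect X W n) • f ⟨z.1, hWV z.2⟩ (r • _)
      rw [map_smul, hf, ← hn' z.1 z.2, smul_comm, ← str_apply, LinearEquiv.apply_symm_apply]
    rw [RefHull.evalStalk_germ, hn' y hyW, ← M1.germ_mres (RefHull.dual L) hWA hyW, key, M1.germ_smul,
      M1.germ_mres]
  refine ⟨(injective_iff_map_eq_zero _).2 fun v hv => ?_, fun w => ?_⟩
  · obtain ⟨r, rfl⟩ := (hl x hx).2 v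
    have h1 := RH26.evalStalk_bidualMap (F := L) x (r • L.presheaf.germ V x hx l)
    rw [hv, map_zero] at h1
    have h2 := LinearMap.congr_fun h1.symm (εs x hx)
    rw [RefHull.bidualAt_apply, LinearMap.zero_apply, hεs] at h2
    have h3 : r = 0 := (str x).injective ((str_apply x r).trans (h2.trans (map_zero (str x)).symm))
    show r • _ = (0 : L.presheaf.stalk x)
    rw [h3, zero_smul]
  · obtain ⟨A, hxA, Φ, rfl⟩ := (RefHull.ddual L).presheaf.exists_germ_eq w
    obtain ⟨W, hxW, j, n, hn⟩ := RefHull.isLocSect_of_mem Φ (A ⊓ V) (homOfLE inf_le_left)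
      (M1.mres (RefHull.dual L) (inf_le_right : A ⊓ V ≤ V) ε) ⟨x, hxA, hx⟩
    have hWA : W ≤ A := j.le.trans inf_le_left
    have hWV : W ≤ V := j.le.trans inf_le_right
    let m : Γ(L, W) := (OmegaSh.fnSect X W n) • M1.mres L hWV l
    refine ⟨L.presheaf.germ W x hxW m, ?_⟩
    rw [RefHull.stalkMapₗ_germ, ← M1.germ_mres (RefHull.ddual L) hWA hxW Φ]
    refine congrArg _ (Subtype.ext (funext fun z => LinearMap.ext fun θ => ?_))
    have hz := hn ⟨z.1, z.2⟩
    rw [M1.germ_mres] at hz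
    show RefHull.evalStalk L (Coh.structureModule X) z.1 θ
      (L.presheaf.germ W z.1 z.2 ((OmegaSh.fnSect X W n) • M1.mres L hWV l)) = Φ.1 ⟨z.1, hWA z.2⟩ θ
    rw [M1.germ_smul, M1.germ_mres, hspan z.1 (hWV z.2) θ, map_smul (RefHull.evalStalk L (Coh.structureModule X) z.1),
      LinearMap.smul_apply, hεs, map_smul]
    congr 1
    exact ((str_apply _ _).symm.trans (str_germ z.2 n)).trans hz.symm

end Groth.Agent.BigOpen13
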