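import Groth.Agent.Lib.Pinch4.Exists

/-!
# Extending sections of affine morphisms
-/

set_option autoImplicit false
set_option linter.style.haveILetI false
set_option backward.isDefEq.respectTransparency false
universe u

open CategoryTheory AlgebraicGeometry TopologicalSpace

namespace Groth.Agent.BigOpen13

theorem exists_appTop_eq {X Y : Scheme.{u}} [IsAffine Y] (φ : Γ(Y, ⊤) ⟶ Γ(X, ⊤)) :
    ∃ g : X ⟶ Y, g.appTop = φ := by
  refine ⟨X.toSpecΓ ≫ Spec.map φ ≫ Y.isoSpec.inv, ?_⟩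
  simp [Scheme.toSpecΓ_appTop, Scheme.isoSpec]

/-- If functions extend uniquely across the complement of `U`, so do sections of affine morphisms. -/
theorem existsUnique_section {X Y : Scheme.{u}} (U : X.Opens)
    (hb : ∀ V : X.Opens, Function.Bijective (X.presheaf.map (homOfLE (inf_le_left : V ⊓ U ≤ V)).op))
    (p : Y ⟶ X) [IsAffineHom p] (s : (U : Scheme.{u}) ⟶ Y) (hs : s ≫ p = U.ι) :
    ∃! t : X ⟶ Y, t ≫ p = 𝟙 X ∧ U.ι ≫ t = s := by
  have hbt : ∀ V : X.Opens, IsIso (X.homOfLE (inf_le_left : V ⊓ U ≤ V)).appTop := fun V => by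
    have key : ∀ (A B : X.Opens) (h : B ≤ A), B = A ⊓ U → Function.Bijective (X.presheaf.map (homOfLE h).op) := by
      rintro A _ h rfl; exact hb A
    rw [ConcreteCategory.isIso_iff_bijective, Scheme.homOfLE_appTop]
    refine key _ _ _ ?_
    rw [Scheme.ι_image_homOfLE_eq_ι_image_inf]
    simp
  have hle : ∀ V : X.Opens, (V.ι : _ ⟶ X) ⁻¹ᵁ V = ⊤ := fun V => V.ι_preimage_self
  have uniq : ∀ (V : X.Opens) (O : Y.Opens) (_ : IsAffineOpen O) (t₁ t₂ : V.toScheme ⟶ O.toScheme),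
      X.homOfLE (inf_le_left : V ⊓ U ≤ V) ≫ t₁ = X.homOfLE (inf_le_left : V ⊓ U ≤ V) ≫ t₂ → t₁ = t₂ := by
    intro V O hO t₁ t₂ h
    haveI : IsAffine O.toScheme := hO
    haveI := hbt V
    refine ext_of_isAffine ((cancel_mono (X.homOfLE (inf_le_left : V ⊓ U ≤ V)).appTop).1 ?_)
    rw [← Scheme.Hom.comp_appTop, ← Scheme.Hom.comp_appTop, h]
  have exist : ∀ V : X.affineOpens, ∃ t : V.1.toScheme ⟶ Y, t ≫ p = V.1.ι ∧
      X.homOfLE (inf_le_left : V.1 ⊓ U ≤ V.1) ≫ t = X.homOfLE inf_le_right ≫ s := by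
    intro V
    let O := p ⁻¹ᵁ V.1
    haveI : IsAffine O.toScheme := IsAffineHom.isAffine_preimage _ V.2
    haveI : IsAffine V.1.toScheme := V.2
    haveI := hbt V.1
    let j := X.homOfLE (inf_le_left : V.1 ⊓ U ≤ V.1)
    let s' := IsOpenImmersion.lift O.ι (X.homOfLE (inf_le_right : V.1 ⊓ U ≤ U) ≫ s) (by
      rw [Scheme.Opens.range_ι]
      rintro _ ⟨z, rfl⟩
      show p ((X.homOfLE (inf_le_right : V.1 ⊓ U ≤ U) ≫ s) z) ∈ V.1
      rw [← Scheme.Hom.comp_apply, Category.assoc, hs, Scheme.homOfLE_ι]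
      exact z.2.1)
    have hs' : s' ≫ O.ι = X.homOfLE (inf_le_right : V.1 ⊓ U ≤ U) ≫ s := IsOpenImmersion.lift_fac _ _ _
    obtain ⟨t₀, hg⟩ : ∃ t₀ : V.1.toScheme ⟶ O.toScheme, t₀.appTop = s'.appTop ≫ inv j.appTop :=
      exists_appTop_eq _
    have ht₀ : j ≫ t₀ = s' := by
      apply ext_of_isAffine
      rw [Scheme.Hom.comp_appTop, hg, Category.assoc, IsIso.inv_hom_id, Category.comp_id]
    refine ⟨t₀ ≫ O.ι, ?_, ?_⟩
    · have h1 : j ≫ t₀ ≫ p ∣_ V.1 = j ≫ 𝟙 _ := by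
        rw [← cancel_mono V.1.ι, Category.assoc, Category.assoc, morphismRestrict_ι, ← Category.assoc j,
          ht₀, ← Category.assoc, hs', Category.assoc, hs]
        simp [j]
      have h2 : t₀ ≫ p ∣_ V.1 = 𝟙 _ := by
        refine ext_of_isAffine ((cancel_mono j.appTop).1 ?_)
        rw [← Scheme.Hom.comp_appTop, ← Scheme.Hom.comp_appTop, h1]
      rw [Category.assoc, ← morphismRestrict_ι, ← Category.assoc, h2, Category.id_comp]
    · rw [← Category.assoc, ht₀, hs']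
  have uniq' : ∀ (V : X.Opens) (hV : IsAffineOpen V) (t₁ t₂ : V.toScheme ⟶ Y), t₁ ≫ p = V.ι → t₂ ≫ p = V.ι →
      X.homOfLE (inf_le_left : V ⊓ U ≤ V) ≫ t₁ = X.homOfLE (inf_le_left : V ⊓ U ≤ V) ≫ t₂ → t₁ = t₂ := by
    intro V hV t₁ t₂ h₁ h₂ h
    have hr : ∀ t : V.toScheme ⟶ Y, t ≫ p = V.ι → Set.range t ⊆ Set.range (p ⁻¹ᵁ V).ι := by
      intro t ht
      rw [Scheme.Opens.range_ι]
      rintro _ ⟨z, rfl⟩
      show p (t z) ∈ V
      rw [← Scheme.Hom.comp_apply, ht]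
      exact z.2
    have := uniq V (p ⁻¹ᵁ V) (hV.preimage p) (IsOpenImmersion.lift _ t₁ (hr _ h₁))
      (IsOpenImmersion.lift _ t₂ (hr _ h₂)) (by
        rw [← cancel_mono (p ⁻¹ᵁ V).ι, Category.assoc, Category.assoc, IsOpenImmersion.lift_fac,
          IsOpenImmersion.lift_fac, h])
    have e := congrArg (· ≫ (p ⁻¹ᵁ V).ι) this
    simpa using e
  choose t htp hts using exist
  have hcov : ⨆ V : X.affineOpens, V.1 = ⊤ := by
    rw [eq_top_iff]
    intro x _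
    obtain ⟨W, hW, hxW, -⟩ := exists_isAffineOpen_mem_and_subset (X := X) (x := x) (U := ⊤) trivial
    exact Opens.mem_iSup.2 ⟨⟨W, hW⟩, hxW⟩
  obtain ⟨G, hG⟩ := Pinch4.exists_glue_opens (fun V : X.affineOpens => V.1) hcov t (fun P Q x hxP hxQ => by
    obtain ⟨W, hW, hxW, hWle⟩ := exists_isAffineOpen_mem_and_subset (X := X) (x := x) (U := P.1 ⊓ Q.1) ⟨hxP, hxQ⟩
    have hWP : W ≤ P.1 := fun y hy => (hWle hy).1
    have hWQ : W ≤ Q.1 := fun y hy => (hWle hy).2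
    refine ⟨W, hxW, hWP, hWQ, uniq' W hW _ _ (by simp [htp]) (by simp [htp]) ?_⟩
    have aux : ∀ (R : X.affineOpens) (hR : W ≤ R.1), X.homOfLE (inf_le_left : W ⊓ U ≤ W) ≫ X.homOfLE hR ≫ t R =
        X.homOfLE (inf_le_right : W ⊓ U ≤ U) ≫ s := by
      intro R hR
      rw [Scheme.homOfLE_homOfLE_assoc, ← Scheme.homOfLE_homOfLE X (inf_le_inf_right U hR) inf_le_left,
        Category.assoc, hts, Scheme.homOfLE_homOfLE_assoc]
    rw [aux P hWP, aux Q hWQ])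
  have hGp : G ≫ p = 𝟙 X := by
    refine (X.openCoverOfIsOpenCover _ hcov).hom_ext _ _ fun V => ?_
    show V.1.ι ≫ G ≫ p = V.1.ι ≫ 𝟙 X
    rw [reassoc_of% (hG V), htp, Category.comp_id]
  have hGs : U.ι ≫ G = s := by
    refine Scheme.hom_ext_of_forall _ _ fun z => ?_
    obtain ⟨W, hW, hzW, hWU⟩ := exists_isAffineOpen_mem_and_subset (X := X) (x := U.ι z) (U := U) z.2
    have hWU : W ≤ U := hWU
    refine ⟨(X.homOfLE hWU).opensRange, ⟨⟨U.ι z, hzW⟩, Subtype.ext (by simp)⟩, ?_⟩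
    rw [← Scheme.Hom.isoOpensRange_inv_comp (X.homOfLE hWU), Category.assoc, Category.assoc]
    congr 1
    rw [Scheme.homOfLE_ι_assoc, hG ⟨W, hW⟩]
    have h := hts ⟨W, hW⟩
    have hinf : W ≤ W ⊓ U := le_inf le_rfl hWU
    have := congrArg (X.homOfLE hinf ≫ ·) h
    simpa using this
  refine ⟨G, ⟨hGp, hGs⟩, fun G' hG' => ?_⟩
  refine (X.openCoverOfIsOpenCover _ hcov).hom_ext _ _ fun V => ?_
  show V.1.ι ≫ G' = V.1.ι ≫ G
  refine uniq' V.1 V.2 _ _ (by rw [Category.assoc, hG'.1, Category.comp_id])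
    (by rw [Category.assoc, hGp, Category.comp_id]) ?_
  rw [Scheme.homOfLE_ι_assoc, Scheme.homOfLE_ι_assoc, ← Scheme.homOfLE_ι X (inf_le_right : V.1 ⊓ U ≤ U),
    Category.assoc, Category.assoc, hG'.2, hGs]

end Groth.Agent.BigOpen13
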