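import Groth.Agent.Lib.BigOpen13.Pair
import Groth.Agent.Lib.FibReg13.Main
import Groth.Agent.Lib.RegLoc.UFD
import Groth.Agent.Lib.EmbDef.Regular

/-!
# Functions extend uniquely across a fibrewise codimension two closed subset
-/

set_option autoImplicit false
set_option linter.style.haveILetI false
set_option backward.isDefEq.respectTransparency false
universe u

open CategoryTheory AlgebraicGeometry RingTheory.Sequence TopologicalSpace

namespace Groth.Agent.BigOpen13

variable {X S : Scheme.{u}} (f : X ⟶ S)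

/-- A prime of height at most one of the fibre stalk at a point off `U` misses the ideal of the complement. -/
theorem exists_notMem_prime (U : X.Opens)
    (hdim : ∀ (s : S) (z : f.fiber s), f.fiberι s z ∉ U →
      (2 : WithBot ℕ∞) ≤ ringKrullDim ((f.fiber s).presheaf.stalk z))
    {U₁ : X.Opens} (hU₁ : IsAffineOpen U₁) (s : S) (x : f.fiber s) (hx : f.fiberι s x ∈ U₁)
    (P : Ideal ((f.fiber s).presheaf.stalk x)) [P.IsPrime] (hP : P.height ≤ 1) :
    ∃ a : Γ(X, U₁), X.basicOpen a ≤ U ∧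
      (f.fiberι s).stalkMap x (X.presheaf.germ U₁ _ hx a) ∉ P := by
  let ι := f.fiberι s
  obtain ⟨V, hV, hxV, hVU⟩ := exists_isAffineOpen_mem_and_subset (X := f.fiber s) (x := x)
    (U := ι ⁻¹ᵁ U₁) hx
  have hVU : V ≤ ι ⁻¹ᵁ U₁ := hVU
  letI := (f.fiber s).presheaf.algebra_section_stalk (U := V) ⟨x, hxV⟩
  haveI : IsLocalization.AtPrime ((f.fiber s).presheaf.stalk x) (hV.primeIdealOf ⟨x, hxV⟩).asIdeal :=
    hV.isLocalization_stalk ⟨x, hxV⟩
  let P₀ : PrimeSpectrum Γ(f.fiber s, V) :=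
    ⟨P.comap (algebraMap Γ(f.fiber s, V) ((f.fiber s).presheaf.stalk x)), inferInstance⟩
  let z : f.fiber s := hV.fromSpec P₀
  have hzV : z ∈ V := hV.range_fromSpec.le ⟨P₀, rfl⟩
  have hzP : hV.primeIdealOf ⟨z, hzV⟩ = P₀ :=
    hV.fromSpec.isOpenEmbedding.injective (hV.fromSpec_primeIdealOf ⟨_, hzV⟩)
  have hzU : ι z ∈ U := by
    by_contra hzU
    have h2 := hdim s z hzU
    letI := (f.fiber s).presheaf.algebra_section_stalk (U := V) ⟨z, hzV⟩
    haveI : IsLocalization.AtPrime ((f.fiber s).presheaf.stalk z) (hV.primeIdealOf ⟨z, hzV⟩).asIdeal :=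
      hV.isLocalization_stalk ⟨z, hzV⟩
    rw [IsLocalization.AtPrime.ringKrullDim_eq_height (hV.primeIdealOf ⟨z, hzV⟩).asIdeal
      ((f.fiber s).presheaf.stalk z), hzP] at h2
    have h3 : P₀.asIdeal.height ≤ 1 := le_trans
      (IsLocalization.height_under (hV.primeIdealOf ⟨x, hxV⟩).asIdeal.primeCompl P).le hP
    have h6 : (2 : WithBot ℕ∞) ≤ ((1 : ℕ∞) : WithBot ℕ∞) := h2.trans (WithBot.coe_le_coe.2 h3)
    exact absurd h6 (by decide)
  obtain ⟨a, haU, hza⟩ := hU₁.exists_basicOpen_le (V := U) ⟨ι z, hzU⟩ (hVU hzV)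
  refine ⟨a, haU, fun hmem => ?_⟩
  let a' : Γ(f.fiber s, V) := ι.appLE U₁ V hVU a
  have h4 : (f.fiberι s).stalkMap x (X.presheaf.germ U₁ _ hx a) =
      (f.fiber s).presheaf.germ V x hxV a' := by
    rw [Scheme.Hom.germ_stalkMap_apply]
    exact ((f.fiber s).presheaf.germ_res_apply (homOfLE hVU) x hxV _).symm
  rw [h4] at hmem
  have h5 : z ∈ (f.fiber s).basicOpen a' := by
    show z ∈ (f.fiber s).basicOpen ((f.fiber s).presheaf.map _ (ι.app U₁ a))
    rw [Scheme.basicOpen_res, ← Scheme.preimage_basicOpen]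
    exact ⟨hzV, hza⟩
  rw [(f.fiber s).mem_basicOpen _ _ hzV] at h5
  letI := (f.fiber s).presheaf.algebra_section_stalk (U := V) ⟨z, hzV⟩
  haveI : IsLocalization.AtPrime ((f.fiber s).presheaf.stalk z) (hV.primeIdealOf ⟨z, hzV⟩).asIdeal :=
    hV.isLocalization_stalk ⟨z, hzV⟩
  exact (IsLocalization.AtPrime.isUnit_to_map_iff ((f.fiber s).presheaf.stalk z)
    (hV.primeIdealOf ⟨z, hzV⟩).asIdeal a').1 h5 (hzP ▸ hmem)

variable [LocallyOfFinitePresentation f] [Flat f]

/-- Near a point off `U`, functions on `U` extend. -/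
theorem exists_extension_nhd (U : X.Opens)
    (hdim : ∀ (s : S) (z : f.fiber s), f.fiberι s z ∉ U →
      (2 : WithBot ℕ∞) ≤ ringKrullDim ((f.fiber s).presheaf.stalk z))
    (hreg : ∀ (s : S) (z : f.fiber s), IsRegularLocalRing ((f.fiber s).presheaf.stalk z))
    (x : X) (hxU : x ∉ U) (V : X.Opens) (hxV : x ∈ V) :
    ∃ (W : X.Opens) (_ : x ∈ W) (_ : W ≤ V),
      Function.Surjective (X.presheaf.map (homOfLE (inf_le_left : W ⊓ U ≤ W)).op) := by
  classical
  obtain ⟨O, hO, hxO, -⟩ := exists_isAffineOpen_mem_and_subset (X := S) (x := f x) (U := ⊤) trivial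
  obtain ⟨U₁, hU₁, hx₁, hU₁le⟩ := exists_isAffineOpen_mem_and_subset (X := X) (x := x)
    (U := V ⊓ f ⁻¹ᵁ O) ⟨hxV, hxO⟩
  have h₁W : U₁ ≤ f ⁻¹ᵁ O := fun y hy => (hU₁le hy).2
  let R := Γ(S, O)
  let A := Γ(X, U₁)
  letI : Algebra R A := (f.appLE O U₁ h₁W).hom.toAlgebra
  haveI : Algebra.FinitePresentation R A := f.finitePresentation_appLE hO hU₁ h₁W
  haveI : Module.Flat R A := HasRingHomProperty.appLE (P := @Flat) f inferInstance ⟨O, hO⟩ ⟨U₁, hU₁⟩ h₁W
  let q := (hU₁.primeIdealOf ⟨x, hx₁⟩).asIdeal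
  letI := X.presheaf.algebra_section_stalk (U := U₁) ⟨x, hx₁⟩
  let St := X.presheaf.stalk x
  haveI : IsLocalization.AtPrime St q := hU₁.isLocalization_stalk ⟨x, hx₁⟩
  let N : Ideal St := ((q.comap (algebraMap R A)).map (algebraMap R A)).map (algebraMap A St)
  -- the fibre stalk as a quotient of the stalk
  let z := f.asFiber x
  let F := (f.fiber (f x)).presheaf.stalk z
  haveI : IsRegularLocalRing F := hreg _ z
  haveI : IsDomain F := RegLoc.isDomain _
  haveI : UniqueFactorizationMonoid F := RegLoc.ufd_of_isRegularLocalRing F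
  have key : ∀ (y : X) (hy : y = x) (hy₁ : y ∈ U₁) (χ₀ : X.presheaf.stalk y →+* F),
      Function.Surjective χ₀ → RingHom.ker χ₀ =
        (IsLocalRing.maximalIdeal (S.presheaf.stalk (f x))).map (DivDesc12.σ f y (by rw [hy])) →
      ∃ χ : St →+* F, Function.Surjective χ ∧ RingHom.ker χ = N ∧
        ∀ a : A, χ (algebraMap A St a) = χ₀ (X.presheaf.germ U₁ y hy₁ a) := by
    intro y hy hy₁ χ₀ hs hk
    subst hy
    refine ⟨χ₀, hs, ?_, fun a => rfl⟩
    have hσ : DivDesc12.σ f y specializes_rfl = (f.stalkMap y).hom := RingHom.ext fun a => by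
      show f.stalkMap y (DivDesc12.sp specializes_rfl a) = _
      rw [DivDesc12.sp_self]
    rw [hk, hσ]
    exact CMSlice4.map_maximalIdeal_stalkMap f hO hU₁ h₁W hy₁
  have hz : f.fiberι (f x) z = x := f.fiberι_asFiber x
  obtain ⟨χ, hχs, hχk, hχ⟩ := key (f.fiberι (f x) z) hz (by rw [hz]; exact hx₁)
    ((f.fiberι (f x)).stalkMap z).hom ((f.fiberι (f x)).stalkMap_surjective z)
    (Ideal.ext fun b => DivDesc12.stalkMap_fiberι_eq_zero_iff f x rfl specializes_rfl z hz b)
  -- the ideal of the complement of `U`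
  let I : Ideal A := PrimeSpectrum.vanishingIdeal (hU₁.fromSpec ⁻¹' (U : Set X)ᶜ)
  have hIU : ∀ a : A, a ∈ I → X.basicOpen a ≤ U := by
    intro a ha y hy
    by_contra hyU
    have hy₁ : y ∈ U₁ := X.basicOpen_le a hy
    have h1 := (PrimeSpectrum.mem_vanishingIdeal _ _).1 ha (hU₁.primeIdealOf ⟨y, hy₁⟩)
      (by rw [Set.mem_preimage, hU₁.fromSpec_primeIdealOf]; exact hyU)
    letI := X.presheaf.algebra_section_stalk (U := U₁) ⟨y, hy₁⟩
    haveI : IsLocalization.AtPrime (X.presheaf.stalk y) (hU₁.primeIdealOf ⟨y, hy₁⟩).asIdeal :=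
      hU₁.isLocalization_stalk ⟨y, hy₁⟩
    exact (IsLocalization.AtPrime.isUnit_to_map_iff (X.presheaf.stalk y)
      (hU₁.primeIdealOf ⟨y, hy₁⟩).asIdeal a).1 ((X.mem_basicOpen _ _ hy₁).1 hy) h1
  have hIU' : ∀ a : A, X.basicOpen a ≤ U → a ∈ I := by
    intro a ha
    rw [PrimeSpectrum.mem_vanishingIdeal]
    intro P hP
    by_contra haP
    apply hP
    refine ha ?_
    have hPm : hU₁.fromSpec P ∈ U₁ := hU₁.range_fromSpec.le ⟨P, rfl⟩
    letI := X.presheaf.algebra_section_stalk (U := U₁) ⟨hU₁.fromSpec P, hPm⟩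
    haveI : IsLocalization.AtPrime (X.presheaf.stalk (hU₁.fromSpec P))
        (hU₁.primeIdealOf ⟨hU₁.fromSpec P, hPm⟩).asIdeal := hU₁.isLocalization_stalk ⟨_, hPm⟩
    rw [X.mem_basicOpen _ _ hPm]
    refine IsLocalization.map_units (X.presheaf.stalk (hU₁.fromSpec P))
      (⟨a, ?_⟩ : (hU₁.primeIdealOf ⟨hU₁.fromSpec P, hPm⟩).asIdeal.primeCompl)
    rw [hU₁.fromSpec.isOpenEmbedding.injective (hU₁.fromSpec_primeIdealOf ⟨_, hPm⟩)]
    exact haP
  have hIq : I ≤ q := fun a ha => (PrimeSpectrum.mem_vanishingIdeal _ _).1 ha (hU₁.primeIdealOf ⟨x, hx₁⟩)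
    (by rw [Set.mem_preimage, hU₁.fromSpec_primeIdealOf]; exact hxU)
  let τ : A →+* F := χ.comp (algebraMap A St)
  have havoid : ∀ P : Ideal F, P.IsPrime → P.height ≤ 1 → ¬ I ≤ P.comap τ := by
    intro P _ hP hle
    obtain ⟨a, ha, haP⟩ := exists_notMem_prime f U hdim hU₁ (f x) z (by rw [hz]; exact hx₁) P hP
    refine haP ?_
    rw [← hχ a]
    exact hle (hIU' a ha)
  obtain ⟨g, hgI, hg0⟩ : ∃ g ∈ I, τ g ≠ 0 := by
    by_contra hcon
    push Not at hcon
    exact havoid ⊥ Ideal.isPrime_bot (by simp) fun a ha => (hcon a ha : τ a = 0)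
  obtain ⟨h, hhI, hh⟩ : ∃ h ∈ I, ∀ π ∈ UniqueFactorizationMonoid.factors (τ g), ¬ π ∣ τ h := by
    let s := (UniqueFactorizationMonoid.factors (τ g)).toFinset
    by_contra hcon
    push Not at hcon
    have hsub : (I : Set A) ⊆ ⋃ π ∈ (s : Set F), ((Ideal.span {π}).comap τ : Set A) := by
      intro a ha
      obtain ⟨π, hπ, hd⟩ := hcon a ha
      exact Set.mem_biUnion (by simpa [s] using hπ) (Ideal.mem_span_singleton.2 hd)
    have hpr : ∀ π ∈ s, (Ideal.span {π} : Ideal F).IsPrime := fun π hπ => by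
      have := UniqueFactorizationMonoid.prime_of_factor π (by simpa [s] using hπ)
      exact (Ideal.span_singleton_prime this.ne_zero).2 this
    obtain ⟨π, hπ, hle⟩ := (Ideal.subset_union_prime (f := fun π => (Ideal.span {π}).comap τ) 0 0
      fun π hπ _ _ => haveI := hpr π hπ; inferInstance).1 hsub
    haveI := hpr π hπ
    exact havoid _ inferInstance (Ideal.height_le_one_of_isPrincipal_of_mem_minimalPrimes (Ideal.span {π}) _
      ⟨⟨inferInstance, le_rfl⟩, fun _ hJ _ => hJ.2⟩) hle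
  have hh0 : τ h ≠ 0 := fun h0 => by
    have hu : ¬ IsUnit (τ g) := by
      intro hu
      refine (hIq hgI : g ∈ q) |> fun hgq => ?_
      have hmx : algebraMap A St g ∈ IsLocalRing.maximalIdeal St := by
        rw [← IsLocalization.AtPrime.map_eq_maximalIdeal q St]; exact Ideal.mem_map_of_mem _ hgq
      haveI : IsLocalHom χ := .of_surjective χ hχs
      exact hmx (isUnit_of_map_unit χ _ hu)
    obtain ⟨π, hπ⟩ := UniqueFactorizationMonoid.exists_mem_factors hg0 hu
    exact hh π hπ (h0 ▸ dvd_zero π)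
  have hrel : IsRelPrime (τ g) (τ h) := by
    intro d hdg hdh
    by_contra hd
    have hd0 : d ≠ 0 := fun h0 => hg0 (zero_dvd_iff.1 (h0 ▸ hdg))
    obtain ⟨p, hp⟩ := UniqueFactorizationMonoid.exists_mem_factors hd0 hd
    have hpd : p ∣ d := UniqueFactorizationMonoid.dvd_of_mem_factors hp
    obtain ⟨π, hπ, hassoc⟩ := UniqueFactorizationMonoid.exists_mem_factors_of_dvd hg0
      (UniqueFactorizationMonoid.irreducible_of_factor p hp) (hpd.trans hdg)
    exact hh π hπ (hassoc.symm.dvd.trans (hpd.trans hdh))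
  -- fibrewise regular pairs
  let eN : (St ⧸ N) ≃+* F := (Ideal.quotEquivOfEq hχk.symm).trans (RingHom.quotientKerEquivOfSurjective hχs)
  have hfib : ∀ a b : A, τ a ≠ 0 → IsRelPrime (τ a) (τ b) → KoszulFibre4.FibReg q R [a, b] := by
    intro a b ha hab
    refine Slice4.fibReg_of_isWeaklyRegular q St [a, b] ?_
    have hF : IsWeaklyRegular F [τ a, τ b] := by
      rw [EmbDef.isWeaklyRegular_self_iff]
      intro i hi c hc
      match i, hi with
      | 0, _ =>
        simp only [List.take_zero, Ideal.ofList_nil, Ideal.mem_bot, List.getElem_cons_zero, mul_eq_zero] at hc ⊢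
        exact hc.resolve_right ha
      | 1, _ =>
        simp only [List.take_succ_cons, List.take_zero, Ideal.ofList_singleton, Ideal.mem_span_singleton,
          List.getElem_cons_succ, List.getElem_cons_zero] at hc ⊢
        exact hab.dvd_of_dvd_mul_right hc
    exact (AddEquiv.isWeaklyRegular_congr (e := eN.symm.toAddEquiv) (by
      refine List.Forall₂.cons (fun r => ?_) (List.Forall₂.cons (fun r => ?_) List.Forall₂.nil) <;>
      · show eN.symm (_ * r) = _ * eN.symm r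
        rw [map_mul]
        congr 1
        rw [RingEquiv.symm_apply_eq]
        rfl)).1 hF
  have hq2 : ∀ a b : A, a ∈ I → b ∈ I → Ideal.ofList [a, b] ≤ q := by
    intro a b ha hb
    refine Ideal.span_le.2 fun c hc => ?_
    rcases List.mem_cons.1 hc with rfl | hc
    · exact hIq ha
    · rcases List.mem_cons.1 hc with rfl | hc
      · exact hIq hb
      · simp at hc
  obtain ⟨G₁, hG₁, hd₁⟩ := Slice4.exists_regular_flat_away q [g, h] (hq2 g h hgI hhI) (hfib g h hg0 hrel)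
  obtain ⟨G₂, hG₂, hd₂⟩ := Slice4.exists_regular_flat_away q [h, g] (hq2 h g hhI hgI) (hfib h g hh0 hrel.symm)
  let W := X.basicOpen (G₁ * G₂)
  letI : Algebra A Γ(X, W) := (X.presheaf.map (homOfLE (X.basicOpen_le (G₁ * G₂))).op).hom.toAlgebra
  haveI : IsLocalization.Away (G₁ * G₂) Γ(X, W) := hU₁.isLocalization_basicOpen (G₁ * G₂)
  letI : Algebra R Γ(X, W) := ((algebraMap A Γ(X, W)).comp (algebraMap R A)).toAlgebra
  haveI : IsScalarTower R A Γ(X, W) := IsScalarTower.of_algebraMap_eq fun _ => rfl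
  have hw₁ := (EmbDef.isWeaklyRegular_self_iff _).1 (hd₁ (G₁ * G₂) (dvd_mul_right _ _) Γ(X, W)).1
  have hw₂ := (EmbDef.isWeaklyRegular_self_iff _).1 (hd₂ (G₁ * G₂) (dvd_mul_left _ _) Γ(X, W)).1
  refine ⟨W, ?_, fun y hy => (hU₁le (X.basicOpen_le _ hy)).1, ?_⟩
  · rw [X.mem_basicOpen _ _ hx₁]
    exact IsLocalization.map_units St (⟨G₁ * G₂, fun hm =>
      ((Ideal.IsPrime.mem_or_mem inferInstance hm).elim hG₁ hG₂)⟩ : q.primeCompl)
  refine surjective_res_of_pair (hU₁.basicOpen _) (algebraMap A Γ(X, W) g) (algebraMap A Γ(X, W) h) ?_ ?_ ?_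
    inf_le_left ?_ ?_
  · rw [← isLeftRegular_iff_isRegular, isLeftRegular_iff_right_eq_zero_of_mul]
    intro c hc
    have := hw₁ 0 (by simp) c (by simpa [mul_comm] using hc)
    simpa using this
  · rw [← isLeftRegular_iff_isRegular, isLeftRegular_iff_right_eq_zero_of_mul]
    intro c hc
    have := hw₂ 0 (by simp) c (by simpa [mul_comm] using hc)
    simpa using this
  · intro c hc
    have := hw₁ 1 (by simp) c (by simpa [Ideal.mem_span_singleton] using hc)
    simpa [Ideal.mem_span_singleton] using this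
  · refine le_inf (X.basicOpen_le _) ?_
    show X.basicOpen (X.presheaf.map _ g) ≤ U
    rw [Scheme.basicOpen_res]
    exact inf_le_right.trans (hIU g hgI)
  · refine le_inf (X.basicOpen_le _) ?_
    show X.basicOpen (X.presheaf.map _ h) ≤ U
    rw [Scheme.basicOpen_res]
    exact inf_le_right.trans (hIU h hhI)

/-- Functions extend uniquely across a fibrewise codimension two closed subset. -/
theorem bijective_res (U : X.Opens) (hdense : CInt.IsSchematicallyDense U)
    (hdim : ∀ (s : S) (z : f.fiber s), f.fiberι s z ∉ U →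
      (2 : WithBot ℕ∞) ≤ ringKrullDim ((f.fiber s).presheaf.stalk z))
    (hreg : ∀ (s : S) (z : f.fiber s), IsRegularLocalRing ((f.fiber s).presheaf.stalk z))
    (V : X.Opens) : Function.Bijective (X.presheaf.map (homOfLE (inf_le_left : V ⊓ U ≤ V)).op) := by
  refine ⟨hdense V, fun t => ?_⟩
  have hloc : ∀ x : V, ∃ (W : X.Opens) (_ : x.1 ∈ W) (hWV : W ≤ V) (w : Γ(X, W)),
      X.presheaf.map (homOfLE (inf_le_left : W ⊓ U ≤ W)).op w =
        X.presheaf.map (homOfLE (inf_le_inf_right U hWV)).op t := by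
    intro x
    by_cases hxU : x.1 ∈ U
    · refine ⟨V ⊓ U, ⟨x.2, hxU⟩, inf_le_left, t, ?_⟩
      congr 2
    · obtain ⟨W, hxW, hWV, hsurj⟩ := exists_extension_nhd f U hdim hreg x.1 hxU V x.2
      obtain ⟨w, hw⟩ := hsurj (X.presheaf.map (homOfLE (inf_le_inf_right U hWV)).op t)
      exact ⟨W, hxW, hWV, w, hw⟩
  choose W hxW hWV w hw using hloc
  have hres : ∀ {A B C : X.Opens} (i : B ≤ A) (j : C ≤ B) (s : Γ(X, A)),
      X.presheaf.map (homOfLE j).op (X.presheaf.map (homOfLE i).op s) =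
        X.presheaf.map (homOfLE (j.trans i)).op s := by
    intro A B C i j s
    rw [← CommRingCat.comp_apply, ← X.presheaf.map_comp]
    rfl
  have hcompat : TopCat.Presheaf.IsCompatible X.sheaf.1 W w := by
    intro i j
    show X.presheaf.map (homOfLE inf_le_left).op (w i) = X.presheaf.map (homOfLE inf_le_right).op (w j)
    refine hdense (W i ⊓ W j) ?_
    have hi := congrArg (X.presheaf.map (homOfLE (inf_le_inf_right U (inf_le_left : W i ⊓ W j ≤ W i))).op) (hw i)
    have hj := congrArg (X.presheaf.map (homOfLE (inf_le_inf_right U (inf_le_right : W i ⊓ W j ≤ W j))).op) (hw j)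
    simp only [hres] at hi hj ⊢
    rw [hi, hj]
  have hcov : V ≤ iSup W := fun x hx => Opens.mem_iSup.2 ⟨⟨x, hx⟩, hxW ⟨x, hx⟩⟩
  obtain ⟨v, hv, -⟩ := TopCat.Sheaf.existsUnique_gluing' X.sheaf W V (fun i => homOfLE (hWV i)) hcov w hcompat
  refine ⟨v, TopCat.Sheaf.eq_of_locally_eq' X.sheaf (fun i => W i ⊓ U) (V ⊓ U)
    (fun i => homOfLE (inf_le_inf_right U (hWV i)))
    (fun y hy => Opens.mem_iSup.2 ⟨⟨y, hy.1⟩, hxW ⟨y, hy.1⟩, hy.2⟩) _ _ fun i => ?_⟩
  show X.presheaf.map _ (X.presheaf.map (homOfLE inf_le_left).op v) = X.presheaf.map _ t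
  rw [hres, ← hw i, ← hv i]
  exact (hres (hWV i) inf_le_left v).symm

end Groth.Agent.BigOpen13
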