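import Mathlib

/-!
# Extending functions across the locus cut out by a regular pair
-/

set_option autoImplicit false
set_option linter.style.haveILetI false
universe u

open CategoryTheory AlgebraicGeometry

namespace Groth.Agent.BigOpen13

theorem dvd_of_dvd_mul_pow {B : Type u} [CommRing B] {g h : B} (hgh : ∀ a, g ∣ a * h → g ∣ a)
    (hg : IsRegular g) : ∀ (n m : ℕ) (a : B), g ^ n ∣ a * h ^ m → g ^ n ∣ a := by
  have h1 : ∀ (m : ℕ) (a : B), g ∣ a * h ^ m → g ∣ a := by
    intro m
    induction m with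
    | zero => intro a ha; simpa using ha
    | succ m ih => intro a ha; exact hgh _ (ih _ (by rwa [mul_assoc, ← pow_succ']))
  intro n
  induction n with
  | zero => intro m a _; simp
  | succ n ih =>
    intro m a ha
    obtain ⟨a', rfl⟩ := h1 m a ((dvd_pow_self g n.succ_ne_zero).trans ha)
    rw [pow_succ']
    refine mul_dvd_mul_left g (ih m a' ?_)
    rw [pow_succ', mul_assoc] at ha
    obtain ⟨c, hc⟩ := ha
    exact ⟨c, hg.left (by simpa [mul_assoc] using hc)⟩

/-- Functions on an open containing `D(g) ∪ D(h)` extend to the whole affine. -/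
theorem surjective_res_of_pair {X : Scheme.{u}} {W : X.Opens} (hW : IsAffineOpen W) (g h : Γ(X, W))
    (hg : IsRegular g) (hh : IsRegular h) (hgh : ∀ a, g ∣ a * h → g ∣ a) {U : X.Opens} (hUW : U ≤ W)
    (hgU : X.basicOpen g ≤ U) (hhU : X.basicOpen h ≤ U) :
    Function.Surjective (X.presheaf.map (homOfLE hUW).op) := by
  intro t
  haveI : ∀ e : Γ(X, W), IsLocalization.Away e Γ(X, X.basicOpen e) := fun e => hW.isLocalization_basicOpen e
  let res : ∀ {A B : X.Opens} (_ : B ≤ A), Γ(X, A) → Γ(X, B) := fun i => X.presheaf.map (homOfLE i).op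
  have hrr : ∀ {A B C : X.Opens} (i : B ≤ A) (j : C ≤ B) (s : Γ(X, A)), res j (res i s) = res (j.trans i) s := by
    intro A B C i j s
    show X.presheaf.map _ (X.presheaf.map _ s) = X.presheaf.map _ s
    rw [← CommRingCat.comp_apply, ← X.presheaf.map_comp]
    rfl
  have halg : ∀ (e : Γ(X, W)) (s : Γ(X, W)), algebraMap Γ(X, W) Γ(X, X.basicOpen e) s = res (X.basicOpen_le e) s :=
    fun _ _ => rfl
  obtain ⟨n, a, ha⟩ := IsLocalization.Away.surj g (res hgU t)
  obtain ⟨m, b, hb⟩ := IsLocalization.Away.surj h (res hhU t)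
  have key : a * h ^ m = b * g ^ n := by
    have hle : X.basicOpen (g * h) ≤ X.basicOpen g ∧ X.basicOpen (g * h) ≤ X.basicOpen h := by
      rw [X.basicOpen_mul]; exact ⟨inf_le_left, inf_le_right⟩
    have h1 := congrArg (res hle.1) ha
    have h2 := congrArg (res hle.2) hb
    simp only [halg] at h1 h2
    have m1 : ∀ {A B : X.Opens} (i : B ≤ A) (s s' : Γ(X, A)), res i (s * s') = res i s * res i s' :=
      fun i s s' => map_mul (X.presheaf.map (homOfLE i).op).hom s s'
    have m2 : ∀ {A B : X.Opens} (i : B ≤ A) (s : Γ(X, A)) (j : ℕ), res i (s ^ j) = res i s ^ j :=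
      fun i s j => map_pow (X.presheaf.map (homOfLE i).op).hom s j
    simp only [m1, m2, hrr] at h1 h2
    have h3 : algebraMap Γ(X, W) Γ(X, X.basicOpen (g * h)) (a * h ^ m) =
        algebraMap Γ(X, W) Γ(X, X.basicOpen (g * h)) (b * g ^ n) := by
      simp only [halg, m1, m2, ← h1, ← h2]
      ring
    obtain ⟨⟨_, k, rfl⟩, hk⟩ := (IsLocalization.eq_iff_exists (Submonoid.powers (g * h)) _).1 h3
    exact ((hg.mul hh).pow k).left hk
  obtain ⟨c, hc⟩ := dvd_of_dvd_mul_pow hgh hg n m a ⟨b, by rw [key, mul_comm]⟩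
  refine ⟨c, ?_⟩
  show res hUW c = t
  have hDg : res (X.basicOpen_le g) c = res hgU t := by
    apply ((IsLocalization.Away.algebraMap_isUnit (S := Γ(X, X.basicOpen g)) g).pow n).mul_right_cancel
    rw [ha, hc, ← map_pow, ← halg, ← map_mul, mul_comm]
  refine TopCat.Presheaf.section_ext X.sheaf U _ _ fun y hy => ?_
  obtain ⟨e, heU, hye⟩ := hW.exists_basicOpen_le ⟨y, hy⟩ (hUW hy)
  suffices hres : res heU (res hUW c) = res heU t by
    have h4 := congrArg (X.presheaf.germ (X.basicOpen e) y hye) hres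
    simp only [res, TopCat.Presheaf.germ_res_apply] at h4
    exact (X.presheaf.germ_res_apply (homOfLE hUW) y hy c).trans h4
  obtain ⟨j, d, hd⟩ := IsLocalization.Away.surj e (res heU t)
  have hle : X.basicOpen (g * e) ≤ X.basicOpen g ∧ X.basicOpen (g * e) ≤ X.basicOpen e := by
    rw [X.basicOpen_mul]; exact ⟨inf_le_left, inf_le_right⟩
  have h1 := congrArg (res hle.1) hDg
  have h2 := congrArg (res hle.2) hd
  simp only [halg] at h2
  have m1 : ∀ {A B : X.Opens} (i : B ≤ A) (s s' : Γ(X, A)), res i (s * s') = res i s * res i s' :=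
    fun i s s' => map_mul (X.presheaf.map (homOfLE i).op).hom s s'
  have m2 : ∀ {A B : X.Opens} (i : B ≤ A) (s : Γ(X, A)) (j : ℕ), res i (s ^ j) = res i s ^ j :=
    fun i s j => map_pow (X.presheaf.map (homOfLE i).op).hom s j
  simp only [hrr] at h1
  simp only [m1, m2, hrr, ← h1] at h2
  have h3 : algebraMap Γ(X, W) Γ(X, X.basicOpen (g * e)) (c * e ^ j) =
      algebraMap Γ(X, W) Γ(X, X.basicOpen (g * e)) d := by
    simp only [halg, m1, m2, h2]
  obtain ⟨⟨_, k, rfl⟩, hk⟩ := (IsLocalization.eq_iff_exists (Submonoid.powers (g * e)) _).1 h3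
  simp only [mul_pow, mul_assoc] at hk
  have hk' : e ^ k * (c * e ^ j) = e ^ k * d := (hg.pow k).left hk
  apply ((IsLocalization.Away.algebraMap_isUnit (S := Γ(X, X.basicOpen e)) e).pow j).mul_right_cancel
  rw [hd, ← map_pow, hrr hUW heU, ← halg, ← map_mul]
  exact (IsLocalization.eq_iff_exists (Submonoid.powers e) _).2 ⟨⟨_, k, rfl⟩, hk'⟩

end Groth.Agent.BigOpen13
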